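import Mathlib
import Cfsg.Agent.Lib.TwMult.D4

/-!
The `2`-part of the Schur multiplier of `²F₄(q)`, `q > 2`.
-/

set_option autoImplicit false
set_option synthInstance.maxSize 2000

namespace CfsgLib.TwMult

open CfsgLib.RGD CfsgLib.Twist CfsgLib.LieMult CfsgLib.Schur CfsgLib.Chev CfsgLib.Weyl CfsgLib.Stein Cfsg.Lie
open scoped MatrixGroups commutatorElement

universe w

theorem cm_jacobi {E G : Type*} [Group E] [Group G] {π : E →* G} (hπ : IsCentralExt π) {a x y : G}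
    (h1 : Commute a y) (h2 : cm π ⁅x⁻¹, a⁆ y = 1) : cm π a ⁅x, y⁆ = 1 := by
  rw [cm_eq_one_iff hπ (map_lf hπ a) (map_cm hπ x y)]
  have := cm_conj' hπ a x y
  rw [h1.eq, mul_inv_cancel_right, show a * x * a⁻¹ = x * ⁅x⁻¹, a⁆ by simp [commutatorElement_def, mul_assoc],
    cm_mul_left hπ, h2, mul_one, mul_inv_cancel, one_mul, eq_mul_inv_iff_mul_eq] at this
  exact this.symm

variable {K : Type w} [Field K]

/-- the layer of a positive root -/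
def oF4 (r : ℕ) : ℕ :=
  [0, 1, 2, 1, 3, 5, 3, 4, 6, 0, 2, 4, 7, 6, 8, 9, 10, 5, 7, 8, 11, 9, 10, 11].getD (r - 24) 0

/-- representatives of the layers -/
def repF4 (m : ℕ) : Fin chevF4.nroots := rtF4 ([33, 27, 34, 28, 35, 29, 37, 36, 38, 39, 40, 44].getD m 0)

theorem rhoF4_eq : ∀ r, (symF4.ρ r : ℕ) = rhoF4 r := by decide +kernel

/-- the character of a root on a one-parameter subgroup of the invariant torus -/
def patF4 (l : List ℤ) (r : ℕ) : ℤ × ℤ :=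
  (wv chevF4 ([l.getD 0 0, l.getD 2 0, 2 * l.getD 3 0, 2 * l.getD 1 0].getD · 0) r,
    wv chevF4 ([l.getD 1 0, l.getD 3 0, l.getD 2 0, l.getD 0 0].getD · 0) r)

/-- patterns whose norm is a power of two -/
def gdF4 (x : ℤ × ℤ) : Prop := (x.1 ^ 2 - 2 * x.2 ^ 2).natAbs ∈ [1, 2, 4]

instance : DecidablePred gdF4 := fun _ => by unfold gdF4; infer_instance

/-- cocharacters orthogonal to the layers -/
def lamF4 (m : ℕ) : List ℤ := [[-1, 0, -2, 0], [0, -1, -1, -1], [-1, 0, -1, -1], [0, -1, -1, -1], [-1, 0, -1, 0],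
  [0, 0, -1, 0], [-1, 0, 0, -1], [-1, 0, -1, -1], [-1, 1, 0, 1], [-1, 0, 0, 0], [-1, 0, -1, 0],
  [0, 0, -1, 0]].getD m []

theorem xF4_mem {Ψ : Set (Fin chevF4.nroots)} (r : Fin 48) (h : rtF4 r ∈ Ψ) (t : K) :
    xU chevF4 K r t ∈ (stSys rtOKF4 K).UU Ψ := (stSys rtOKF4 K).x_mem_UU h t

variable [CharP K 2]

theorem cast_even {c : ℤ} (h : c % 2 = 0) : (c : K) = 0 :=
  (CharP.intCast_eq_zero_iff K 2 c).2 (Int.dvd_of_emod_eq_zero h)

theorem commF4 (r s : ℕ) (t u : K) (h : r < 48 ∧ s < 48 ∧ s ≠ chevF4.neg r ∧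
    ∀ c ∈ chevF4.commTerms r s, c.2.1 % 2 = 0 := by decide +kernel) :
    Commute (xU chevF4 K r t) (xU chevF4 K s u) :=
  commute_of_commTerms h.1 h.2.1 h.2.2.1 (fun c hc => cast_even (h.2.2.2 c hc)) t u

variable (θ : K →+* K) (hθ : ∀ t, θ (θ t) ^ 2 = t)

theorem filtF4 : Filt (twF4 θ hθ) 12 (fun r => oF4 r) repF4 :=
  filt_of rhoF4 oF4 rhoF4_eq 12 repF4 (by decide +kernel) (by decide +kernel) (by decide +kernel)
    fun r a1 a2 s a3 a4 c hc => ((by decide +kernel : ∀ r < chevF4.nroots, chevF4.nroots ≤ 2 * r →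
      ∀ s < chevF4.nroots, chevF4.nroots ≤ 2 * s → ∀ c ∈ chevF4.commTerms s r, c.2.1 % 2 = 0 ∨ oF4 s < oF4 c.1)
        r a1 a2 s a3 a4 c hc).imp_left cast_even

/-- the square root of the Frobenius map -/
def psiF4 : Kˣ →* Kˣ := (Units.map θ.toMonoidHom) ^ 2

omit [CharP K 2] in
theorem psiF4_val (u : Kˣ) : (psiF4 θ u : K) = θ u ^ 2 := by simp [psiF4]

omit [CharP K 2] in
include hθ in
theorem psiF4_psiF4 (u : Kˣ) : psiF4 θ (psiF4 θ u) = u ^ 2 := Units.ext (by simp [psiF4_val, hθ])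

theorem sInvF4 (a b : Kˣ) : SInv (twF4 θ hθ) (vecF4 ![a, b, psiF4 θ b, psiF4 θ a]) :=
  forall_ndF4.2 (by
    have := piF4
    simp [twF4_f0, twF4_f1, twF4_f2, twF4_f3, show (twF4 θ hθ).π = symF4.π from rfl, this, vecF4_nd, psiF4_val, hθ])

theorem torF4 : Tor (twF4 θ hθ) patF4 fun x u => u ^ x.1 * psiF4 θ u ^ x.2 := fun l u => by
  refine ⟨_, sInvF4 θ hθ (u ^ l.getD 0 0 * psiF4 θ u ^ l.getD 1 0) (u ^ l.getD 2 0 * psiF4 θ u ^ l.getD 3 0),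
    fun r => ?_⟩
  simp only [patF4]
  rw [← chw_zpow (h := rtOKF4), ← chw_zpow (h := rtOKF4), ← chw_mul]
  congr 1
  exact funext (forall_ndF4.2 (by
    simp only [vecF4_nd]; simp [psiF4_psiF4 θ hθ, mul_comm, zpow_mul, ndF4]))

include hθ in
theorem injF4 {x : ℤ × ℤ} (h : gdF4 x) : Function.Injective fun u : Kˣ => u ^ x.1 * psiF4 θ u ^ x.2 := by
  refine (injective_iff_map_eq_one (zpowGroupHom x.1 * (zpowGroupHom x.2).comp (psiF4 θ))).2 fun u hu => ?_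
  have h1 : u ^ x.1 * psiF4 θ u ^ x.2 = 1 := hu
  have h2 := congrArg (psiF4 θ) h1
  rw [map_mul, map_zpow, map_zpow, psiF4_psiF4 θ hθ, map_one] at h2
  have h3 : u ^ (x.1 ^ 2 - 2 * x.2 ^ 2) = 1 := by
    have := congrArg₂ (fun a b => a ^ x.1 * b ^ (-x.2)) h1 h2
    simp only [mul_zpow, ← zpow_natCast u, ← zpow_mul, one_zpow, mul_one] at this
    rw [← this, mul_assoc, ← mul_assoc (psiF4 θ u ^ _), ← zpow_add, ← mul_left_comm, ← zpow_add]
    simp [mul_comm, sq, sub_eq_add_neg, mul_assoc]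
  have h4 : u ^ 2 ^ 2 = 1 := by
    rw [← orderOf_dvd_iff_pow_eq_one]
    refine (Int.natCast_dvd.1 (orderOf_dvd_iff_zpow_eq_one.2 h3)).trans ?_
    simp only [gdF4, List.mem_cons, List.not_mem_nil, or_false] at h
    rcases h with h | h | h <;> simp [h]
  exact Units.ext (iterateFrobenius_inj K 2 2 (by simpa [iterateFrobenius_def] using congrArg Units.val h4))

variable [Fintype K] {e : ℕ} {θ} (he : ∀ t, θ t = t ^ e) (h4 : 4 < Fintype.card K)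
  {E : Type w} [Group E] {π : E →* twistedF4 K e} (hπ : IsCentralExt π)

local notation "X" => lay (stSys rtOKF4 K) (twistedF4 K e) (fun r : Fin chevF4.nroots => oF4 r)
local notation "D" => Subgroup.subgroupOf (StSys.H (stSys rtOKF4 K)) (twistedF4 K e)

include hθ h4 in
theorem exists_ne_oneF4 (x : ℤ × ℤ) (h : gdF4 x) : ∃ u : Kˣ, u ^ x.1 * psiF4 θ u ^ x.2 ≠ 1 := by
  obtain ⟨u, hu⟩ := exists_zpow_ne_one (F := K) (n := 1) one_ne_zero (by rw [Nat.card_eq_fintype_card]; omega)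
  exact ⟨u, fun e => hu (injF4 θ hθ h (by simpa using e))⟩

include hθ he h4

theorem pairF4 {r s : ℕ} (hr : r < 12) (hs : s < 12) (h : (min r s, max r s) ∉ [(1, 3), (2, 7), (4, 10), (5, 11)])
    (C : Subgroup E) : PairOK π D C (X r) (X (r + 1)) (X s) (X (s + 1)) := by
  have hM := isTwF4 he hθ
  by_cases e : r = s
  · subst e
    refine (filtF4 θ hθ).pairOK hM (H_leF4 he hθ) hr hr C fun R hR =>
      sep_of_inv (Nat.card_eq_fintype_card (α := K) ▸ h4) fun a ha => ?_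
    obtain ⟨u, hu⟩ := Finite.injective_iff_surjective.1 (injF4 θ hθ
      (x := patF4 (lamF4 (if r = 0 then 1 else 0)) (repF4 r)) (by clear hR h hs; revert r; decide +kernel))
      (Units.mk0 a ha)
    obtain ⟨c, k1, k2⟩ := torF4 θ hθ (lamF4 (if r = 0 then 1 else 0)) u
    simpa [k2, show _ * _ = _ from hu] using hR c k1
  · exact pairOK_sep hM (H_leF4 he hθ) (filtF4 θ hθ) (torF4 θ hθ) (z := (0, 0)) (by simp)
      (exists_ne_oneF4 hθ h4) hr hs (l := lamF4 r) (Or.inl ((by decide +kernel : ∀ r < 12, ∀ s < 12,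
        (min r s, max r s) ∉ [(1, 3), (2, 7), (4, 10), (5, 11)] → r ≠ s → patF4 (lamF4 r) (repF4 r) = (0, 0) ∧
          gdF4 (patF4 (lamF4 r) (repF4 s))) r hr s hs h e)) C

omit h4 in
theorem x2_fixF4 (r : Fin 48) (t : K) (h : rhoF4 r < 48 ∧ rhoF4 (rhoF4 r) = r ∧ expF4 r = 2 ∧
    expF4 (rhoF4 r) = 1 ∧ rhoF4 r ≠ chevF4.neg r ∧ chevF4.commTerms r (rhoF4 r) = [] := by decide +kernel) :
    xU chevF4 K r t * xU chevF4 K (rhoF4 r) (θ t ^ 2) ∈ twistedF4 K e := by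
  obtain ⟨h1, h2, h3, h4, h5, h6⟩ := h
  have k0 : ∀ (r : Fin 48) t, xU chevF4 K r t ∈ (stSys rtOKF4 K).grp := fun r => xF4_mem r (Set.mem_univ _)
  rw [eq_FixF4 he hθ]
  refine ⟨mul_mem (k0 r _) (k0 ⟨_, h1⟩ _), ?_⟩
  rw [(twF4 θ hθ).σ_mul _ (k0 r _) _ (k0 ⟨_, h1⟩ _), twF4_σ_x θ hθ r.2, twF4_σ_x θ hθ h1, h2, h3, h4, pow_one,
    map_pow, hθ]
  exact (commF4 r _ _ _ ⟨r.2, h1, h5, by simp [h6]⟩).eq.symm

omit he h4 hθ [Fintype K] in
theorem comm_topF4 (a b : K) : ⁅xU chevF4 K 33 1 * xU chevF4 K 24 1, xU chevF4 K 40 a * xU chevF4 K 46 b⁆ =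
    xU chevF4 K 44 a * xU chevF4 K 47 b := by
  have c : ∀ {a b : GL chevF4.Idx K}, Commute a b → MulAut.conj a b = b := fun h => by simp [h.eq]
  have k : ∀ r s k : ℕ, r < 48 ∧ s < 48 ∧ r ≠ chevF4.neg s ∧ chevF4.commTerms s r = [(k, -1, 1, 1)] → ∀ u,
      MulAut.conj (xU chevF4 K r 1) (xU chevF4 K s u) = xU chevF4 K k u * xU chevF4 K s u := fun r s k h u => by
    rw [← mul_inv_eq_iff_eq_mul]
    simpa [commutatorElement_def] using commutator_xU_single h.1 h.2.1 h.2.2.1 h.2.2.2 1 u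
  rw [commutatorElement_def, ← MulAut.conj_apply, mul_inv_eq_iff_eq_mul]
  simp only [map_mul, MulAut.mul_apply, c (commF4 24 40 _ _), k 24 46 47 (by decide +kernel),
    k 33 40 44 (by decide +kernel), c (commF4 33 47 _ _), c (commF4 33 46 _ _)]
  rw [mul_assoc, mul_assoc, (commF4 40 47 _ _).left_comm]

include hπ

theorem cm_layF4 {r s : ℕ} (h1 : ∀ a < 48, 48 ≤ 2 * a ∧ r ≤ oF4 a → ∀ b < 48, 48 ≤ 2 * b ∧ s ≤ oF4 b →
    b ≠ chevF4.neg a ∧ ∀ c ∈ chevF4.commTerms a b, c.2.1 % 2 = 0)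
    (h2 : ∀ i < 12, ∀ j < 12, r ≤ i → s ≤ j → (min i j, max i j) ∉ [(1, 3), (2, 7), (4, 10), (5, 11)]) :
    ∀ a ∈ X r, ∀ b ∈ X s, cm π a b = 1 :=
  cm_eq_one_of_chain hπ (lay_anti _ _) ((filtF4 θ hθ).lay_top _) (H_conj_lay _ _)
    (fun _ ha _ hb => Subtype.ext (commute_of_UU (S := stSys rtOKF4 K) (fun r hr s hs t u => commF4 r s t u
      ⟨r.2, s.2, h1 r r.2 (mem_lev.1 hr) s s.2 (mem_lev.1 hs)⟩) (mem_lay.1 ha) (mem_lay.1 hb)).eq)
    fun i hi j hj a b => pairF4 hθ he h4 hi hj (h2 i hi j hj a b) _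

theorem cm_fiveF4 : ∀ a ∈ X 5, ∀ z ∈ X 11, cm π a z = 1 := fun a ha z hz => by
  have hM := isTwF4 he hθ
  have hf := filtF4 θ hθ
  obtain ⟨c, hc⟩ : ∃ c, (hf.lin hM (m := 11) (by omega)).c z = c := ⟨_, rfl⟩
  let x : twistedF4 K e := ⟨_, (x2_mem_F4 he 1).1⟩
  let y : twistedF4 K e := ⟨_, x2_fixF4 hθ he 40 c⟩
  have hy : y ∈ X 10 := mul_mem (xF4_mem 40 (mem_lev.2 (by decide +kernel)) _)
    (xF4_mem 46 (mem_lev.2 (by decide +kernel)) _)
  have h1 : (⁅x, y⁆ : twistedF4 K e).1 = xU chevF4 K 44 c * xU chevF4 K 47 (θ c ^ 2) := by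
    rw [← comm_topF4, ← map_one θ]
    simp only [commutatorElement_def, Subgroup.coe_mul, Subgroup.coe_inv, map_one, x]
    rfl
  have h2 := (hf.lin hM (m := 11) (by omega)).mem_of_eq (a := ⁅x, y⁆) (mem_lay.2 (h1 ▸ mul_mem
    (xF4_mem 44 (mem_lev.2 (by decide +kernel)) _) (xF4_mem 47 (mem_lev.2 (by decide +kernel)) _))) hz
    ((hf.lin_eq hM _ (by
      rw [h1]
      exact Set.mem_of_eq_of_mem (inv_mul_cancel_left _ _) (xF4_mem 47 (by
        exact ⟨mem_lev.2 (by decide +kernel), by rw [Set.mem_singleton_iff]; decide +kernel⟩) _))).trans hc.symm)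
  rw [hf.lay_top, Subgroup.mem_bot, inv_mul_eq_one] at h2
  rw [← h2]
  refine cm_jacobi hπ (Subtype.ext (commute_of_UU (S := stSys rtOKF4 K) (fun r hr s hs t u => commF4 r s t u (by
    rw [mem_lev] at hr hs; revert r s; decide +kernel)) (mem_lay.1 ha) (mem_lay.1 hy)).eq)
    (cm_layF4 hθ he h4 hπ (r := 7) (by decide +kernel) (by decide +kernel) _ ?_ _ hy)
  refine comm_mem_of_UU (S := stSys rtOKF4 K) (Ψ₁ := {r | (r : ℕ) ∈ [33, 24]}) (fun r hr s hs => ?_)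
    (fun r hr _ _ => hf.conj_mem ((stSys rtOKF4 K).x_mem_U ?_ _))
    (fun r hr _ _ => hf.conj_mem ((stSys rtOKF4 K).x_mem_U hr.1 _))
    (inv_mem (mul_mem (xF4_mem 33 (by rw [Set.mem_ofPred_eq]; decide) _)
      (xF4_mem 24 (by rw [Set.mem_ofPred_eq]; decide) _))) (mem_lay.1 ha)
  · have : (r : ℕ) ≠ chevF4.neg s ∧ ∀ c ∈ chevF4.commTerms s r, c.2.1 % 2 = 0 ∨
        ∃ h : c.1 < 48, 48 ≤ 2 * c.1 ∧ 7 ≤ oF4 c.1 := by
      rw [mem_lev] at hs; rw [Set.mem_ofPred_eq] at hr; revert r s; decide +kernel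
    exact commutator_xU_mem r.2 s.2 this.1 fun c hc => (this.2 c hc).imp cast_even
      fun ⟨h1, h2⟩ => xF4_mem ⟨_, h1⟩ (mem_lev.2 h2)
  · rw [pos_iff_le]; rw [Set.mem_ofPred_eq] at hr; revert r; decide +kernel

omit h4 hπ [Fintype K] in
theorem exists_nF4 (l : List (Fin 2)) : ∃ n : twistedF4 K e, (stSys rtOKF4 K).Acts n (symF4.pw l) := by
  obtain ⟨n, -, h1, h2⟩ := (isTwF4 he hθ).exists_acts (symF4.pw_mem_W1 l)
  exact ⟨⟨n, h1⟩, h2⟩

theorem pair_szF4 (l l' : List (Fin 2)) {r s : ℕ} (h : r < 12 ∧ app tSwF4 l 27 = repF4 r ∧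
    (∀ k ∈ [27, 25, 28, 30], 48 ≤ 2 * app tSwF4 l k ∧ r ≤ oF4 (app tSwF4 l k) ∧
      (k = 27 ∨ app tSwF4 l k ≠ repF4 r) ∧ 48 ≤ 2 * app tSwF4 (l' ++ l) k ∧ 5 ≤ oF4 (app tSwF4 (l' ++ l) k)) ∧
    ∀ a < 48, 48 ≤ 2 * a → oF4 a = s → 48 ≤ 2 * app tSwF4 l' a ∧ 11 ≤ oF4 (app tSwF4 l' a)) (C : Subgroup E) :
    PairOK π D C (X r) (X (r + 1)) (X s) (X (s + 1)) := by
  obtain ⟨h1, h2, h3, h5⟩ := h
  have hM := isTwF4 he hθ
  have hf := filtF4 θ hθ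
  obtain ⟨n, hn⟩ := exists_nF4 hθ he l
  obtain ⟨g, hg⟩ := exists_nF4 hθ he l'
  have h6 : ∀ a, (rootSys rtOKF4).Pos a ∧ oF4 a = s → symF4.pw l' a ∈ lev (rootSys rtOKF4) (fun r => oF4 r) 11 :=
    fun a ha => by rw [mem_lev, pw_val _ swF4]; exact h5 a a.2 ((pos_iff_le _).1 ha.1) ha.2
  refine pairOK_of_rep (S := {a | g * a * g⁻¹ ∈ X 5}) (fun a ha => ?_)
    (hf.exists_rep hM (Ψ := {a | (rootSys rtOKF4).Pos a ∧ oF4 a = s}) (fun a ha b hb k hk => ?_)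
      (fun _ h => h) fun _ h h' => ⟨h, h'⟩) fun a ha b hb => ?_
  · have k1 : ∀ {m : ℕ} {v : List (Fin 2)} {d : twistedF4 K e}, (stSys rtOKF4 K).Acts d (symF4.pw v) →
        (∀ k ∈ [27, 25, 28, 30], 48 ≤ 2 * app tSwF4 v k ∧ m ≤ oF4 (app tSwF4 v k)) → ∀ t,
          d * ⟨_, (x4_mem_F4 he t 0).1⟩ * d⁻¹ ∈ X m := fun hd hk t => conj_mem_UU hd (fun r hr => by
        rw [mem_lev, pw_val _ swF4]
        exact hk r (by rw [← posJF4_1'] at hr; clear hk; revert r; decide +kernel))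
      ((mem_b2F4 hθ).2 ⟨(t, 0), rfl⟩).1
    obtain ⟨c, k2, k3⟩ := id hn
    obtain ⟨t, ht⟩ := Finite.injective_iff_surjective.1 θ.injective ((c (rtF4 27))⁻¹ * (hf.lin hM h1).c a)
    have k4 := k1 hn (fun k hk => ⟨(h3 k hk).1, (h3 k hk).2.1⟩) t
    refine ⟨_, by simpa [mul_assoc] using k1 (d := g * n) (v := l' ++ l) (by
      rw [Sym.pw_append]; exact acts_mul' (symF4.pw_mem_W1 l).1 hg hn) (fun k hk => (h3 k hk).2.2.2) t, k4,
      (hf.lin hM h1).mem_of_eq k4 ha (hf.lin_eq hM _ ?_)⟩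
    have k5 := k3 (rtF4 27) (θ t)
    rw [ht, mul_inv_cancel_left₀ (left_ne_zero_of_mul_eq_one (k2 _)),
      show symF4.pw l (rtF4 27) = repF4 r from Fin.ext ((pw_val _ swF4 _ _).trans h2)] at k5
    have k6 := conj_mem_UU hn (Ψ := {r | (r : ℕ) ∈ [25, 28, 30]})
      (Ψ' := lev (rootSys rtOKF4) (fun r => oF4 r) r \ {repF4 r}) (fun k hk => by
        have := h3 k (List.mem_cons_of_mem _ hk)
        rw [Set.mem_sdiff, mem_lev, Set.mem_singleton_iff, Fin.ext_iff, pw_val _ swF4]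
        exact ⟨⟨this.1, this.2.1⟩, this.2.2.1.resolve_left fun e => by simp [e] at hk⟩)
      (mul_mem (mul_mem (xF4_mem 25 (by rw [Set.mem_ofPred_eq]; decide) t)
        (xF4_mem 28 (by rw [Set.mem_ofPred_eq]; decide) (θ t * t + 0)))
        (xF4_mem 30 (by rw [Set.mem_ofPred_eq]; decide) (θ 0 ^ 2)))
    rw [← k5, ← ht]
    convert k6 using 1
    simp only [Subgroup.coe_mul, Subgroup.coe_inv, show (stSys rtOKF4 K).x (rtF4 27) = xU chevF4 K 27 from rfl]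
    group
    rfl
  · exact absurd (hf.lt _ (hf.closed 11 _ (h6 a ha) _ (h6 b hb) _ (hk.apply (symF4.pw_mem_W1 l').1)).1) (by
      have := hf.sum _ _ _ (h6 a ha).1 (h6 b hb).1 (hk.apply (symF4.pw_mem_W1 l').1)
      have := (h6 a ha).2; have := (h6 b hb).2; beta_reduce at *; omega)
  · rw [cm_eq_one_of_conj hπ g (cm_fiveF4 hθ he h4 hπ _ ha _ (conj_mem_UU hg h6 hb))]
    exact one_mem _

theorem complF4 : ∃ C : Subgroup E, (∀ c ∈ C, π c = 1 → c = 1) ∧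
    C.map π = (stSys rtOKF4 K).U.subgroupOf _ := by
  refine (filtF4 θ hθ).compl (isTwF4 he hθ) (H_leF4 he hθ) hπ (fun m hm => ?_) fun r s h1 h2 C => ?_
  · obtain ⟨u, hu⟩ := exists_ne_oneF4 hθ h4 (patF4 (lamF4 (if m = 0 then 1 else 0)) (repF4 m))
      (by revert m; decide +kernel)
    obtain ⟨c, k1, k2⟩ := torF4 θ hθ (lamF4 (if m = 0 then 1 else 0)) u
    exact ⟨c, k1, k2 _ ▸ hu⟩
  by_cases h : (r, s) ∈ [(1, 3), (2, 7), (4, 10), (5, 11)]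
  · simp only [List.mem_cons, List.not_mem_nil, or_false, Prod.mk.injEq] at h
    rcases h with ⟨rfl, rfl⟩ | ⟨rfl, rfl⟩ | ⟨rfl, rfl⟩ | ⟨rfl, rfl⟩
    exacts [pair_szF4 hθ he h4 hπ [] [0, 1, 0] (by decide +kernel) C,
      pair_szF4 hθ he h4 hπ [0] [0, 1] (by decide +kernel) C,
      pair_szF4 hθ he h4 hπ [1, 0] [0] (by decide +kernel) C,
      pair_szF4 hθ he h4 hπ [0, 1, 0] [] (by decide +kernel) C]
  · exact pairF4 hθ he h4 (by omega) h2 (by rwa [min_eq_left h1, max_eq_right h1]) C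

omit hπ in
theorem multP'_F4 : MultP' (twistedF4 K e) 2 :=
  multP'_of_compl_U (isTwF4 he hθ) 2 fun _ _ _ _ hπ => complF4 hθ he h4 hπ

end CfsgLib.TwMult
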