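import Mathlib
import Cfsg.Agent.Lib.TwMult.RG
import Cfsg.Agent.Lib.TwMult.Filt
import Cfsg.Agent.Lib.CIT.AppFrob
import Cfsg.Agent.Lib.Sz.Mult
import Cfsg.Agent.Lib.Sz.Models

/-!
The rank one subgroups of a twisted group; in characteristic two they are recognised as `L₂(q)` or `Sz(q)`.
-/

set_option autoImplicit false

namespace CfsgLib.TwMult

open CfsgLib.RGD CfsgLib.Twist CfsgLib.LieMult CfsgLib.Schur
open scoped commutatorElement

universe w

theorem multP_suzuki {G : Type w} [Group G] (h : Cfsg.Lie.IsoSuzuki G) : MultP G 2 := by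
  obtain ⟨F, _, _, m, hm, hF, ⟨e⟩⟩ := h
  refine MultP.congr (multP_of_forall_prime fun Γ _ _ σ hσ r hr h2 => ?_) (e.trans (Sz.lieSzEquiv hF).symm).symm
  have := Fact.mk hr
  obtain ⟨P⟩ : Nonempty (Sylow r (Sz.tits hF).grp) := inferInstance
  have : IsCyclic P := by
    by_cases hP : (P : Subgroup (Sz.tits hF).grp) = ⊥
    · rw [hP]
      infer_instance
    · obtain ⟨n, hn⟩ := P.isPGroup'.exists_card_eq
      obtain ⟨A, hA, hle⟩ := Sz.Tits.exists_isTorus_le_of_odd hm (Nat.card_eq_fintype_card.trans hF)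
        (hn ▸ (hr.odd_of_ne_two h2).pow) hP
      have := hA.cyclic
      exact Subgroup.isCyclic_of_le hle
  exact (centralExt_of_stem hσ).not_dvd_card_stemKer_of_isCyclic P

theorem multP_of_fk {G : Type w} [Group G] [Finite G] {K : Subgroup G} (h : CIT.App.FK K) (h2 : Bender.Rank2 G) :
    MultP G 2 := by
  rcases h.bender h2 with ⟨F, _, _, _, -, ⟨e⟩⟩ | h
  exacts [(multP_SL2 2).congr ((SL2.pmEquiv CharTwo.two_eq_zero).trans e.symm), multP_suzuki h]

variable {ι κ B : Type} [Fintype κ] [DecidableEq κ] {Φ : RootSys ι κ}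
  {F : Type*} [Field F] {G : Type w} [Group G] {S : StSys Φ F G} {T : Tw S B} {M : Subgroup G}

theorem exists_chw (hS : Sharp S) {h : G} (hh : h ∈ S.H) :
    ∃ c : κ → Fˣ, ∀ r t, h * S.x r t * h⁻¹ = S.x r (chw Φ c r * t) := by
  rw [hS.H_gen] at hh
  induction hh using Subgroup.closure_induction with
  | mem g hg =>
    obtain ⟨i, c, hc, rfl⟩ := hg
    refine ⟨Pi.mulSingle i (Units.mk0 c hc), fun r t => ?_⟩
    rw [hS.h_conj i c hc, chw, Finset.prod_eq_single i (fun j _ h => by simp [h]) (by simp)]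
    simp
  | one => exact ⟨1, by simp [chw]⟩
  | mul a b _ _ h1 h2 =>
    obtain ⟨c, h1⟩ := h1
    obtain ⟨d, h2⟩ := h2
    refine ⟨c * d, fun r t => ?_⟩
    rw [mul_inv_rev, ← mul_assoc, mul_assoc a, mul_assoc a, h2, h1]
    simp [chw, mul_zpow, Finset.prod_mul_distrib, mul_assoc]
  | inv a _ h1 =>
    obtain ⟨c, h1⟩ := h1
    refine ⟨c⁻¹, fun r t => ?_⟩
    rw [mul_assoc, inv_mul_eq_iff_eq_mul, mul_inv_eq_iff_eq_mul, h1, ← mul_assoc,
      ← Units.val_mul]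
    simp [chw]

theorem Filt.mem_succ_of_commute [Finite ι] {n : ℕ} {o : ι → ℕ} {rep : ℕ → ι} (h : Filt T n o rep) (hM : IsTw T M)
    {m : ℕ} (hm : m < n) {u d x : M} (hu : (u : G) ∈ S.U) (hd : (d : G) ∈ S.H) {s : F} (hs : s ≠ 1)
    (e : ∀ t, d * S.x (rep m) t * (d : G)⁻¹ = S.x (rep m) (s * t)) (hx : x ∈ lay S M o m)
    (hc : Commute (u * d) x) : x ∈ lay S M o (m + 1) := by
  refine (h.lin hM hm).fpf (H_conj_lay M o m d hd) (h.lin_acts hM hm hd e) hs x hx ?_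
  rw [show ⁅d, x⁆ = ⁅u⁻¹, x⁆ by
    rw [commutatorElement_def, commutatorElement_def, show d = u⁻¹ * (u * d) by group, mul_assoc u⁻¹, hc.eq]
    group]
  exact h.comm_mem (inv_mem hu) hx

variable (T M) in
/-- the rank one subgroup attached to an orbit of nodes -/
def levi (b : B) : Subgroup M :=
  (S.UU (posJ Φ (T.J b))).subgroupOf M ⊔ (S.UU (negJ Φ (T.J b))).subgroupOf M

theorem levi_le {b : B} {K : Subgroup G} (h1 : S.UU (posJ Φ (T.J b)) ≤ K) (h2 : S.UU (negJ Φ (T.J b)) ≤ K)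
    (g : levi T M b) : (g.1 : G) ∈ K :=
  sup_le (c := K.subgroupOf M) (Subgroup.subgroupOf_mono _ h1) (Subgroup.subgroupOf_mono _ h2) g.2

variable [Finite ι] (hM : IsTw T M) (b : B)
include hM

theorem levi_bruhat (g : levi T M b) : (g.1 : G) ∈ S.B ∨ ∃ u n v : levi T M b,
    (u.1 : G) ∈ S.UU (posJ Φ (T.J b)) ∧ (v.1 : G) ∈ S.UU (posJ Φ (T.J b)) ∧ (n.1 : G) ∈ S.N ∧
      S.Acts n.1 (T.sw b) ∧ g = u * n * v :=
  (T.bruhat_levi_fix hM.sharp (levi_le (UU_posJ_le_LJ S _) (UU_negJ_le_LJ S _) g) (hM.le_fix g.1.2)).imp id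
    fun ⟨u, hu, n, hn, ha, v, hv, e⟩ => by
      let u' : levi T M b := ⟨⟨u, hM.posJ_le b hu⟩, Subgroup.mem_sup_left hu.1⟩
      let v' : levi T M b := ⟨⟨v, hM.posJ_le b hv⟩, Subgroup.mem_sup_left hv.1⟩
      have : ((u'⁻¹ * g * v'⁻¹).1 : G) = n := by simp [u', v', e, mul_assoc]
      exact ⟨u', u'⁻¹ * g * v'⁻¹, v', hu.1, hv.1, this ▸ hn.1, this ▸ ha, by group⟩

theorem exists_levi_n : ∃ n : levi T M b, (n.1 : G) ∈ S.N ∧ S.Acts n.1 (T.sw b) := by
  obtain ⟨v, h1, h2, h3⟩ := hM.exists_neg b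
  obtain ⟨-, n, -, -, -, h4, h5, -⟩ := (levi_bruhat hM b ⟨⟨v, h1⟩, Subgroup.mem_sup_right h2⟩).resolve_left
    fun h => h3 (hM.sharp.eq_one_of_mem_B_V h (UU_negJ_le_V S _ h2))
  exact ⟨n, h4, h5⟩

/-- the rank one data of the rank one subgroup -/
noncomputable def leviRk : RankOne (levi T M b) where
  U := ((S.UU (posJ Φ (T.J b))).subgroupOf M).subgroupOf _
  V := ((S.UU (negJ Φ (T.J b))).subgroupOf M).subgroupOf _
  T := (S.H.subgroupOf M).subgroupOf _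
  n := (exists_levi_n hM b).choose
  gen := (Subgroup.subgroupOf_sup le_sup_left le_sup_right).symm.trans (Subgroup.subgroupOf_self _)
  n_T _ ht := hM.sharp.conj_mem_H (exists_levi_n hM b).choose_spec.1 ht
  n_sq := by
    obtain ⟨h1, h2⟩ := (exists_levi_n hM b).choose_spec
    exact hM.sharp.mem_H _ (mul_mem h1 h1) (T.sw_mul_self b ▸ acts_mul' (T.sw_mem b).1 h2 h2)
  bruhat y hy h := by
    obtain ⟨h1, h2⟩ := (exists_levi_n hM b).choose_spec
    obtain ⟨u, n, v, h3, h4, h5, h6, rfl⟩ := (levi_bruhat hM b y).resolve_left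
      fun h' => h (Subtype.ext (Subtype.ext (hM.sharp.eq_one_of_mem_B_V h' (UU_negJ_le_V S _ hy))))
    exact ⟨u, h3, _⁻¹ * n, hM.sharp.inv_mul_mem_H h1 h5 (T.sw_mem b).1 h2 h6, v, h4, by simp [mul_assoc]⟩

theorem rk_levi : Rk T M b (leviRk hM b) (levi T M b).subtype :=
  ⟨(Subgroup.map_subgroupOf_eq_of_le le_sup_left).symm, (Subgroup.map_subgroupOf_eq_of_le le_sup_right).symm,
    (exists_levi_n hM b).choose_spec.1, (exists_levi_n hM b).choose_spec.2, fun _ h => h⟩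

theorem multP_levi [Finite G] [Finite F] [CharP F 2] (h2 : Bender.Rank2 (levi T M b))
    (h : ∀ u d x : levi T M b, u ∈ (leviRk hM b).U → d ∈ (leviRk hM b).T → x ∈ (leviRk hM b).U →
      Commute (u * d) x → x = 1 ∨ d = 1) : MultP (levi T M b) 2 := by
  have hS := hM.sharp
  have k1 : ∀ x ∈ (leviRk hM b).U, x ≠ 1 → ∀ g, g⁻¹ * x * g ∈ (leviRk hM b).U →
      ∃ u ∈ (leviRk hM b).U, ∃ d ∈ (leviRk hM b).T, g = u * d := fun x hx h1 g hg => by
    rcases levi_bruhat hM b g with h3 | ⟨u, n, v, h3, h4, -, h5, rfl⟩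
    · obtain ⟨u, hu, d, hd, e⟩ := hM.mem_B h3 g.1.2
      have h4 := hS.mem_posJ_of_mem_U_LJ hu.1 (J := T.J b) (by
        simpa [e] using mul_mem (levi_le (UU_posJ_le_LJ S _) (UU_negJ_le_LJ S _) g)
          (inv_mem (Subgroup.mem_sup_left hd.1)))
      let u' : levi T M b := ⟨⟨u, hM.U_le hu⟩, Subgroup.mem_sup_left h4⟩
      exact ⟨u', h4, u'⁻¹ * g, by simpa [leviRk, Subgroup.mem_subgroupOf, u', e] using hd.1, by group⟩
    · have := hS.eq_one_of_mem_B_V (S.U_le_B (UU_posJ_le_U S _ (mul_mem (mul_mem h4 hg) (inv_mem h4))))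
        (by
          simpa [mul_assoc, StSys.V] using conj_mem_UU' (T.sw_mem b).1 h5 (Ψ' := {r | Φ.Neg r}) (fun r hr => by
            rw [T.sw_inv]; exact w0_neg Φ _ hr.1 hr.2) (mul_mem (mul_mem (inv_mem h3) hx) h3))
      have e : v * ((u * n * v)⁻¹ * x * (u * n * v)) * v⁻¹ = 1 := Subtype.ext (Subtype.ext this)
      exact absurd (by simpa [mul_assoc, mul_eq_one_comm] using e) h1
  obtain ⟨x, h3, h4, h5⟩ := hM.exists_pos b
  let x' : levi T M b := ⟨⟨x, h3⟩, Subgroup.mem_sup_left h4⟩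
  refine multP_of_fk (K := (leviRk hM b).U) ⟨fun x hx h1 c hc => ?_, fun x hx h1 g hg => ?_, ?_, fun e => ?_⟩ h2
  · have hc := Subgroup.mem_centralizer_singleton_iff.1 hc
    obtain ⟨u, hu, d, hd, rfl⟩ := k1 x hx h1 c (by rwa [mul_assoc, ← hc, inv_mul_cancel_left])
    simpa [(h u d x hu hd hx hc).resolve_left h1] using hu
  · obtain ⟨u, hu, d, hd, rfl⟩ := k1 x hx h1 g hg
    exact mul_mem (Subgroup.le_normalizer hu) (Subgroup.mem_normalizer_iff.2 fun y =>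
      ⟨hS.H_conj_UU hd, fun hy => by simpa [mul_assoc, leviRk, Subgroup.mem_subgroupOf] using hS.H_conj_UU' hd hy⟩)
  · obtain ⟨k, hk⟩ := hM.isPGroup_U 2 ⟨x, UU_posJ_le_U S _ h4, h3⟩
    obtain ⟨j, -, hj⟩ := (Nat.dvd_prime_pow Nat.prime_two).1 (orderOf_dvd_of_pow_eq_one (x := x')
      (n := 2 ^ k) (Subtype.ext (Subtype.ext (by simpa [x'] using congrArg Subtype.val hk))))
    obtain ⟨i, hi⟩ := StrEmb.exists_pow_orderOf_two (r := x') (hj ▸ (Nat.even_pow' (by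
      rintro rfl; exact h5 (congrArg (fun g : levi T M b => (g.1 : G)) (orderOf_eq_one_iff.1 hj)))).2 even_two)
    exact ⟨_, pow_mem (show x' ∈ (leviRk hM b).U from h4) i, hi⟩
  · obtain ⟨u, hu, d, hd, e⟩ := k1 x' h4 (fun e => h5 (congrArg (fun g : levi T M b => (g.1 : G)) e))
      (leviRk hM b).n ((Subgroup.mem_normalizer_iff''.1 (e ▸ Subgroup.mem_top (leviRk hM b).n) x').1 h4)
    exact T.sw_ne_one b (hS.eq_one_of_acts_mem_B (rk_levi hM b).n_mem (rk_levi hM b).n_acts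
      (e ▸ mul_mem (S.U_le_B (UU_posJ_le_U S _ hu)) (S.H_le_B hd)))

end CfsgLib.TwMult
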