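import Mathlib
import Cfsg.Agent.Lib.TwMult.F4P
import Cfsg.Agent.Lib.TwMult.Levi

/-!
The Schur multiplier of `²F₄(q)`, `q > 2`.
-/

set_option autoImplicit false
set_option synthInstance.maxSize 2000

namespace CfsgLib.TwMult

open CfsgLib.RGD CfsgLib.Twist CfsgLib.LieMult CfsgLib.Schur CfsgLib.Chev CfsgLib.Weyl CfsgLib.Stein Cfsg.Lie

universe w

variable {K : Type w} [Field K]

theorem chwF4 (c : Fin chevF4.rank → Kˣ) (r : Fin 48) (v : List ℤ)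
    (h : ∀ i < 4, chevF4.cartan i r = v.getD i 0 := by decide +kernel) : chw (rootSys rtOKF4) c (rtF4 r) =
      c (ndF4 0) ^ v.getD 0 0 * c (ndF4 1) ^ v.getD 1 0 * c (ndF4 2) ^ v.getD 2 0 * c (ndF4 3) ^ v.getD 3 0 := by
  simp only [chw, rootSys_wt, ← h 0 (by omega), ← h 1 (by omega), ← h 2 (by omega), ← h 3 (by omega)]
  exact Fin.prod_univ_four fun i => c (ndF4 i) ^ chevF4.cartan i r

theorem mem_posJF4 (b : Fin 2) : ∀ s ∈ posJ (rootSys rtOKF4) (symF4.J b),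
    (s : ℕ) ∈ [[24, 33], [25, 27, 28, 30]].getD b [] := by
  fin_cases b
  exacts [fun s => (posJF4_0 s).1, fun s => (posJF4_1 s).1]

theorem eq_one_of_chwF4 {d : GL chevF4.Idx K} (hd : d ∈ (stSys rtOKF4 K).H) {c : Fin chevF4.rank → Kˣ}
    (hc : ∀ r t, d * (stSys rtOKF4 K).x r t * d⁻¹ = (stSys rtOKF4 K).x r (chw (rootSys rtOKF4) c r * t))
    (h : c (ndF4 0) = 1 ∧ c (ndF4 1) = 1 ∧ c (ndF4 2) = 1 ∧ c (ndF4 3) = 1) : d = 1 :=
  (sharp_stSys _ _).faithful d hd fun i t => by simp [hc, chw, forall_ndF4 (p := (c · = 1)).2 h]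

variable [CharP K 2] {θ : K →+* K} (hθ : ∀ t, θ (θ t) ^ 2 = t) {e : ℕ} (he : ∀ t, θ t = t ^ e)

theorem chw_leviF4 {b : Fin 2} {d : levi (twF4 θ hθ) (twistedF4 K e) b} {c : Fin chevF4.rank → Kˣ}
    (hc : ∀ r t, d.1.1 * (stSys rtOKF4 K).x r t * d.1.1⁻¹ =
      (stSys rtOKF4 K).x r (chw (rootSys rtOKF4) c r * t)) (r : Fin 48)
    (h : ∀ s ∈ [[24, 33], [25, 27, 28, 30]].getD b [], (r : ℕ) ≠ chevF4.neg s ∧ r ≠ chevF4.neg (chevF4.neg s) ∧
      (∀ c ∈ chevF4.commTerms s r, c.2.1 % 2 = 0) ∧ ∀ c ∈ chevF4.commTerms (chevF4.neg s) r, c.2.1 % 2 = 0) :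
    chw (rootSys rtOKF4) c (rtF4 r) = 1 := by
  have k := mem_posJF4 b
  have := levi_le (K := Subgroup.centralizer {xU chevF4 K r 1}) (UU_le _ fun (s : Fin _) hs t =>
    Subgroup.mem_centralizer_singleton_iff.2
      (commF4 s r t 1 ⟨s.2, r.2, (h s (k s hs)).1, (h s (k s hs)).2.2.1⟩).eq)
    (UU_le _ fun s hs t => by
      obtain ⟨s, h1, rfl⟩ := (neg_image_posJ (Φ := rootSys rtOKF4) _).ge hs
      exact Subgroup.mem_centralizer_singleton_iff.2 (commF4 (chevF4.neg s) r t 1 ⟨neg_lt s.2, r.2,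
        (h s (k s h1)).2.1, (h s (k s h1)).2.2.2⟩).eq) d
  exact Units.ext (by simpa using (sharp_stSys _ _).x_inj _ ((hc (rtF4 r) 1).symm.trans
    (mul_inv_eq_iff_eq_mul.2 (Subgroup.mem_centralizer_singleton_iff.1 this))))

include he

theorem torus_leviF4 {b : Fin 2} {d : levi (twF4 θ hθ) (twistedF4 K e) b} {c : Fin chevF4.rank → Kˣ}
    (hc : ∀ r t, d.1.1 * (stSys rtOKF4 K).x r t * d.1.1⁻¹ =
      (stSys rtOKF4 K).x r (chw (rootSys rtOKF4) c r * t)) :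
    (b = 0 → c (ndF4 1) = 1 ∧ c (ndF4 2) = 1 ∧ c (ndF4 3) = psiF4 θ (c (ndF4 0))) ∧
      (b = 1 → c (ndF4 0) = 1 ∧ c (ndF4 3) = 1 ∧ c (ndF4 2) = psiF4 θ (c (ndF4 1))) := by
  have h0 := (twF4 θ hθ).fixChar_of_fix (sharp_stSys _ _) ((isTwF4 he hθ).le_fix d.1.2)
    (y := fun i => chw (rootSys rtOKF4) c ((rootSys rtOKF4).simple i)) fun i => hc _
  constructor <;> rintro rfl
  · have h1 := (chwF4 c 39 [0, -1, 1, 0]).symm.trans (chw_leviF4 hθ hc 39 (by decide +kernel))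
    have h2 := (chwF4 c 45 [0, 2, -1, 0]).symm.trans (chw_leviF4 hθ hc 45 (by decide +kernel))
    have h3 : (chw _ c (rtF4 25) : K) = θ (chw _ c (rtF4 27)) ^ 2 := (h0 (ndF4 1)).trans (twF4_f1 ..)
    rw [← psiF4_val, Units.val_inj, chwF4 c 25 [0, -2, 2, -1], chwF4 c 27 [-1, 2, -1, 0]] at h3
    simp [inv_mul_eq_one] at h1
    simp [← h1, zpow_ofNat, sq] at h2
    simpa [← h1, h2] using h3
  · have h1 := (chwF4 c 29 [-1, 0, 0, 1]).symm.trans (chw_leviF4 hθ hc 29 (by decide +kernel))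
    have h2 := (chwF4 c 41 [2, 0, 0, -1]).symm.trans (chw_leviF4 hθ hc 41 (by decide +kernel))
    have h3 : (chw _ c (rtF4 24) : K) = θ (chw _ c (rtF4 33)) ^ 2 := (h0 (ndF4 0)).trans (twF4_f0 ..)
    rw [← psiF4_val, Units.val_inj, chwF4 c 24 [0, 0, -1, 2], chwF4 c 33 [2, -1, 0, 0]] at h3
    simp [inv_mul_eq_one] at h1
    simp [← h1, zpow_ofNat, sq] at h2
    simpa [← h1, h2] using h3

local notation "X" => lay (stSys rtOKF4 K) (twistedF4 K e) (fun r : Fin chevF4.nroots => oF4 r)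

theorem fpf_leviF4 (b : Fin 2) (u d x : levi (twF4 θ hθ) (twistedF4 K e) b)
    (hu : u ∈ (leviRk (isTwF4 he hθ) b).U) (hd : d ∈ (leviRk (isTwF4 he hθ) b).T)
    (hx : x ∈ (leviRk (isTwF4 he hθ) b).U) (h : Commute (u * d) x) : x = 1 ∨ d = 1 := by
  have hM := isTwF4 he hθ
  have hf := filtF4 θ hθ
  obtain ⟨c, hc⟩ := exists_chw hM.sharp hd
  have k0 := torus_leviF4 hθ he hc
  refine or_iff_not_imp_right.2 fun h1 => Subtype.ext (Subtype.ext ?_)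
  have k1 : ∀ m < 12, ∀ y a, gdF4 y → (a = 1 → d.1.1 = 1) →
      chw (rootSys rtOKF4) c (repF4 m) = a ^ y.1 * psiF4 θ a ^ y.2 → x.1 ∈ X m → x.1 ∈ X (m + 1) :=
    fun m hm y a h2 h3 h4 h5 => hf.mem_succ_of_commute hM hm (u := u.1) (d := d.1) (UU_posJ_le_U _ _ hu) hd
      (fun e => h1 (Subtype.ext (Subtype.ext (h3 (injF4 θ hθ h2 (by simpa [← h4] using e)))))) (hc _) h5
      (congrArg Subtype.val h.eq)
  have k2 : ∀ m m', (∀ r ∈ [[24, 33], [25, 27, 28, 30]].getD b [], m ≤ oF4 r → m' ≤ oF4 r) →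
      x.1 ∈ X m → x.1 ∈ X m' := fun m m' h2 h3 => (stSys rtOKF4 K).UU_mono (fun r hr => by
        exact ⟨hr.1.1, h2 r (mem_posJF4 b r hr.2) hr.1.2⟩) ((hM.nondeg.UU_inf_UU (hf.closed m)
      (fun _ h => h.1) (closed_posJ _) fun _ h => h.1).le ⟨h3, hx⟩)
  have k3 : x.1 ∈ X 0 := by rw [lay_zero]; exact UU_posJ_le_U _ _ hx
  have k4 : x.1 ∈ X 12 → x.1.1 = 1 := fun h => by simpa [hf.lay_top] using h
  obtain rfl | rfl : b = 0 ∨ b = 1 := by omega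
  · exact k4 (k2 1 _ (by decide) (k1 0 (by omega) (2, 0) (c (ndF4 0)) (by decide)
      (fun e => eq_one_of_chwF4 hd hc (by simp [e, k0.1 rfl]))
      ((chwF4 _ 33 [2, -1, 0, 0]).trans (by simp [k0.1 rfl])) k3))
  · have k5 : c (ndF4 1) = 1 → d.1.1 = 1 := fun e => eq_one_of_chwF4 hd hc (by simp [e, k0.2 rfl])
    exact k4 (k2 4 _ (by decide) (k1 3 (by omega) (0, 1) _ (by decide) k5
      ((chwF4 _ 28 [-1, 0, 1, -1]).trans (by simp [k0.2 rfl])) (k2 2 _ (by decide) (k1 1 (by omega) (2, -1) _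
        (by decide) k5 ((chwF4 _ 27 [-1, 2, -1, 0]).trans (by simp [k0.2 rfl])) (k2 0 _ (by decide) k3)))))

variable [Fintype K]

theorem rank2_leviF4 (h4 : 4 < Fintype.card K) (b : Fin 2) : Bender.Rank2 (levi (twF4 θ hθ) (twistedF4 K e) b) := by
  obtain ⟨r, h1, h2, h3⟩ : ∃ r : Fin 48, (rhoF4 r < 48 ∧ rhoF4 (rhoF4 r) = r ∧ expF4 r = 2 ∧ expF4 (rhoF4 r) = 1 ∧
      rhoF4 r ≠ chevF4.neg r ∧ chevF4.commTerms r (rhoF4 r) = []) ∧ rtF4 r ∈ posJ (rootSys rtOKF4) (symF4.J b) ∧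
      rtF4 r ≠ symF4.ρ (rtF4 r) := by
    fin_cases b
    exacts [⟨33, by decide +kernel, (posJF4_0 _).2 (by decide), by decide +kernel⟩,
      ⟨28, by decide +kernel, (posJF4_1 _).2 (by decide), by decide +kernel⟩]
  have h5 : ∀ t, xU chevF4 K (rhoF4 r) t = (stSys rtOKF4 K).x (symF4.ρ (rtF4 r)) t := fun t => by
    rw [stSys_x, rhoF4_eq]; rfl
  let x : K → levi (twF4 θ hθ) (twistedF4 K e) b := fun t => ⟨⟨_, x2_fixF4 hθ he r t h1⟩, Subgroup.mem_sup_left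
    (mul_mem (xF4_mem r h2 _) (h5 _ ▸ (stSys rtOKF4 K).x_mem_UU ((twF4 θ hθ).ρ_mem_posJ h2) _))⟩
  have k1 : ∀ t u, x t * x u = x (t + u) := fun t u => Subtype.ext (Subtype.ext (by
    simp only [x, Subgroup.coe_mul, MulMemClass.mk_mul_mk, map_add, CharTwo.add_sq, xU_add]
    exact (commF4 r _ _ _ ⟨r.2, h1.1, h1.2.2.2.2.1, by simp [h1.2.2.2.2.2]⟩).symm.mul_mul_mul_comm _ _))
  have k2 : ∀ t u, x t = x u → t = u := fun t u h => ((sharp_stSys rtOKF4 K).x2_inj h3 (b := θ t ^ 2) (d := θ u ^ 2) (by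
    rw [← h5, ← h5]; exact congrArg (fun g : levi (twF4 θ hθ) (twistedF4 K e) b => g.1.1) h)).1
  have k3 : x 0 = 1 := by simpa using k1 0 0
  obtain ⟨c, h6, h7⟩ := exists_sq_ne_one (K := K) h4.le
  exact ⟨x 1, x c, fun h => one_ne_zero (k2 _ _ (h.trans k3.symm)), fun h => h6 (k2 _ _ (h.trans k3.symm)),
    fun h => h7 (by simp [← k2 _ _ h]), by rw [k1, CharTwo.add_self_eq_zero, k3],
    by rw [k1, CharTwo.add_self_eq_zero, k3], by rw [k1, k1, add_comm]⟩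

include hθ in
theorem mult_twF4 (h4 : 4 < Fintype.card K) : Cfsg.HasCyclicSchurMultiplier (twistedF4 K e) 1 := by
  have hM := isTwF4 he hθ
  refine trivial_mult_of_multP (RGHom.multP_of_indep (rg_charP (rk_levi hM) hM 2 (genF4 he hθ)
    (fun b => ((isPGroup_U hM 2).to_le (Subgroup.subgroupOf_mono _ (UU_posJ_le_U _ _))).comap_subtype)
    (fun b => by
      have := isPGroup_image hM 2 (symF4.sw_mem b) (A := posJ _ (symF4.J b)) fun _ h => h.1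
      rw [sw_image, neg_image_posJ] at this
      exact this.comap_subtype)
    fun b t ht => ⟨_, not_dvd_card_units 2, Subtype.ext (Subtype.ext (by simpa using hM.sharp.H_pow_card ht))⟩)
    (fun b => multP_levi hM b (rank2_leviF4 hθ he h4 b) (fpf_leviF4 hθ he b)) fun i a ha h => ?_)
    (multP'_F4 hθ he h4)
  obtain rfl | rfl : i = 0 ∨ i = 1 := by omega
  · obtain ⟨d, -, e⟩ := SetLike.le_def.1 (iSup₂_le (a := (leviRk hM 1).T.map (levi _ _ 1).subtype) fun j hj => by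
      fin_cases j
      exacts [absurd hj (by decide), le_rfl]) h
    obtain ⟨c, hc⟩ := exists_chw hM.sharp ha
    have h1 := (torus_leviF4 hθ he hc).1 rfl
    have h2 := (torus_leviF4 hθ he (d := d) (by rwa [show d.1 = a.1 from e])).2 rfl
    exact Subtype.ext (Subtype.ext (eq_one_of_chwF4 ha hc ⟨h2.1, h1.1, h1.2.1, h2.2.1⟩))
  · simpa [show ∀ j : Fin 2, ¬ 1 < j by decide, rg_φ] using h

end CfsgLib.TwMult
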