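import Mathlib
import Cfsg.Agent.Lib.TwMult.Chev
import Cfsg.Agent.Lib.TwMult.RG
import Cfsg.Agent.Lib.Stein.Sub
import Cfsg.Agent.Lib.Stein.MultChev

/-!
The Schur multiplier of `²E₆(q)`, `q ≠ 2`.
-/

set_option autoImplicit false

namespace CfsgLib.TwMult

open CfsgLib.RGD CfsgLib.Twist CfsgLib.LieMult CfsgLib.Schur CfsgLib.Chev CfsgLib.Weyl CfsgLib.Stein Cfsg.Lie
open scoped MatrixGroups

universe w

variable {K : Type w} [Field K]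

/-- the layer of a positive root -/
def oE6 (r : ℕ) : ℕ := [2, 3, 5, 0, 6, 8, 3, 6, 7, 11, 1, 4, 9, 12, 9, 10, 15, 13, 17, 19, 2, 5, 8, 11, 14, 12,
  15, 16, 17, 18, 20, 19, 20, 21, 22, 23].getD (r - 36) 0

/-- representatives of the layers -/
def repE6 (m : ℕ) : Fin chevE6.nroots := rtE6 ([39, 46, 36, 37, 47, 38, 40, 44, 41, 48, 51, 45, 49, 53, 60, 52,
  63, 54, 65, 55, 66, 69, 70, 71].getD m 0)

/-- separating cocharacters -/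
def certE6 (s r : ℕ) : List ℤ := [[0, -1, 0, 0, 0, 0], [0, 0, -1, 0, 0, 0], [0, 0, 0, -1, 0, 0],
  [0, 0, 0, 0, -1, 0], [-1, 0, 0, 0, 0, 0], [0, 0, 0, 0, 0, -1], [0, 0, -1, -1, 0, 0], [0, 0, -1, -1, -1, 0],
  [0, 0, 0, 0, 0, 1], [0, 0, -1, 0, -1, 0], [-1, 0, -1, 0, 0, 0], [-1, -1, 0, 0, 0, 0], [-1, 0, 0, 0, 0, -1],
  [0, 0, 1, 0, 0, 0], [-1, 0, 0, 0, 0, 1], [-1, 0, 0, 0, -1, 0], [-1, 0, -1, 0, -1, -1], [1, 0, 0, 0, 0, 0],
  [0, -1, 0, -1, 0, 0], [0, 1, 0, 0, 0, 0]].getD (([[0], [1, 2], [0, 1, 3], [4, 4, 2, 5], [6, 1, 0, 4, 1],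
  [4, 4, 2, 7, 4, 8], [4, 4, 0, 0, 4, 0, 5], [4, 4, 0, 0, 4, 0, 2, 4], [4, 4, 0, 0, 4, 0, 9, 2, 1],
  [4, 4, 0, 0, 4, 0, 2, 10, 2, 5], [4, 4, 0, 0, 4, 0, 10, 2, 11, 2, 4], [4, 4, 0, 0, 4, 0, 2, 10, 2, 12, 2, 13],
  [4, 4, 0, 0, 4, 0, 2, 10, 2, 9, 2, 12, 1], [4, 4, 1, 14, 4, 1, 0, 0, 0, 0, 0, 0, 0, 4],
  [4, 4, 0, 0, 4, 0, 1, 1, 1, 1, 1, 1, 1, 0, 0], [4, 4, 0, 0, 4, 0, 12, 2, 12, 2, 10, 2, 2, 0, 1, 13],
  [4, 4, 0, 0, 4, 0, 1, 1, 1, 1, 1, 1, 1, 0, 2, 1, 2], [4, 4, 2, 12, 4, 12, 0, 0, 0, 0, 0, 0, 0, 1, 0, 0, 0, 3],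
  [4, 4, 2, 10, 4, 15, 0, 0, 0, 0, 0, 0, 0, 1, 0, 0, 0, 10, 1],
  [4, 4, 16, 2, 4, 2, 0, 0, 0, 0, 0, 0, 0, 1, 0, 0, 0, 2, 2, 4],
  [4, 4, 9, 2, 4, 2, 0, 0, 0, 0, 0, 0, 0, 1, 0, 0, 0, 2, 2, 9, 17],
  [0, 1, 2, 4, 0, 4, 4, 4, 4, 4, 4, 4, 4, 4, 4, 4, 4, 4, 4, 4, 4, 2],
  [1, 18, 0, 4, 1, 4, 4, 4, 4, 4, 4, 4, 4, 4, 4, 4, 4, 4, 4, 4, 4, 0, 0],
  [1, 2, 0, 4, 1, 4, 4, 4, 4, 4, 4, 4, 4, 4, 4, 4, 4, 4, 4, 4, 4, 0, 2, 19]].getD s []).getD r 0) []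

theorem filtE6 (φ : K →+* K) : Filt (twE6 φ) 24 (fun r => oE6 r) repE6 :=
  filt_strict rhoE6 oE6 (show ∀ r, (symE6.ρ r : ℕ) = rhoE6 r by decide +kernel) 24 repE6 (by decide +kernel)
    (by decide +kernel) (by decide +kernel)

theorem pair_h_mem_commutator {ι κ : Type} [Fintype κ] [DecidableEq κ] {Φ : RootSys ι κ} {G : Type*} [Group G]
    {S : StSys Φ K G} (hR : HRule S) {i j : κ} (ho : Orth Φ i j) (h1 : Φ.A i j = 0) (h2 : Φ.A j i = 0)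
    (φ : K →+* K) {E : Subgroup G} (hx : ∀ t, S.x (Φ.simple i) t * S.x (Φ.simple j) (φ t) ∈ E)
    (hy : ∀ t, S.x (Φ.neg (Φ.simple i)) t * S.x (Φ.neg (Φ.simple j)) (φ t) ∈ E) {a : K} (h3 : a ≠ 0)
    (h4 : a ^ 2 ≠ 1) (c : K) : S.h (Φ.simple i) c * S.h (Φ.simple j) (φ c) ∈ ⁅E, E⁆ := by
  have key : ∀ {E : Subgroup G}, (∀ t, S.x (Φ.simple i) t * S.x (Φ.simple j) (φ t) ∈ E) →
      (∀ t, S.x (Φ.neg (Φ.simple i)) t * S.x (Φ.neg (Φ.simple j)) (φ t) ∈ E) →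
      ∀ c, S.h (Φ.simple i) c * S.h (Φ.simple j) (φ c) ∈ E := fun {E} hx hy c => by
    have k : ∀ c, S.n (Φ.simple i) c * S.n (Φ.simple j) (φ c) ∈ E := fun c => by
      rw [ho.n_mul_n, ← map_inv₀, ← map_neg]
      exact mul_mem (mul_mem (hx c) (hy _)) (hx c)
    rw [ho.h_mul_h]
    simpa using mul_mem (k c) (k (-1))
  have k : ∀ r s (l : K), l ≠ 1 → (∀ t u, Commute (S.x r t) (S.x s u)) → (∀ t, S.x r t * S.x s (φ t) ∈ E) →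
      a ^ Φ.wt i r * φ a ^ Φ.wt j r = l → a ^ Φ.wt i s * φ a ^ Φ.wt j s = φ l →
      ∀ t, S.x r t * S.x s (φ t) ∈ ⁅E, E⁆ := fun r s l k1 k2 k3 k4 k5 t => by
    have := Subgroup.commutator_mem_commutator (key hx hy a) (k3 (t / (l - 1)))
    have k6 : ∀ r u, S.h (Φ.simple i) a * S.h (Φ.simple j) (φ a) * S.x r u *
        (S.h (Φ.simple i) a * S.h (Φ.simple j) (φ a))⁻¹ = S.x r (a ^ Φ.wt i r * φ a ^ Φ.wt j r * u) :=
      fun r u => by rw [mul_assoc (_ : K), ← hR i _ _ _ h3, ← hR j _ _ _ ((map_ne_zero φ).2 h3)]; group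
    rw [commutatorElement_def, ← conj_mul, k6, k6, k4, k5, mul_inv_rev, mul_assoc, ← mul_assoc (S.x s _),
      ← S.x_sub, ← S.x_neg, ← (k2 _ _).eq, ← mul_assoc, ← S.x_add, ← map_mul, ← map_sub, ← sub_eq_add_neg,
      ← sub_one_mul, mul_div_cancel₀ _ (sub_ne_zero.2 k1)] at this
    exact this
  refine key (k _ _ (a ^ 2) h4 ho.pos_pos hx ?_ ?_) (k _ _ (a ^ 2)⁻¹ (by simpa using h4) ho.neg_neg hy ?_ ?_) c <;>
    simp [Φ.wt_neg, Φ.wt_simple, Φ.A_self, h1, h2, zpow_ofNat]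

/-- the fields of the rank one subgroups -/
def fldE6 (φ : K →+* K) : Fin 4 → Subfield K :=
  ![φ.eqLocusField (RingHom.id K), φ.eqLocusField (RingHom.id K), ⊤, ⊤]

variable [Fintype K] {q : ℕ} {φ : K →+* K} (hφ : ∀ t, φ t = t ^ q) (hK : Fintype.card K = q ^ 2)
include hφ hK

theorem multP'_E6 (hq : 3 ≤ q) (p : ℕ) [Fact p.Prime] [CharP K p] : MultP' (twistedE6 K q) p := by
  have hK' : Nat.card K = q ^ 2 := Nat.card_eq_fintype_card.trans hK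
  refine multP'_of_compl_U (isTwE6 hφ (frob2 hφ hK)) p fun E _ _ π hπ => compl_pat (fun _ => twE6_σ_x φ)
    (isTwE6 hφ (frob2 hφ hK)) (eq_FixE6 hφ (frob2 hφ hK)) hπ (filtE6 φ)
    (show ∀ r, (symE6.ρ r : ℕ) = rhoE6 r by decide +kernel)
    (tor2 (fun _ => hφ) (p := ([5, 1, 4, 3, 2, 0].getD · 0))
      (show ∀ i, (symE6.π i : ℕ) = _ by decide +kernel) (by decide +kernel)
      fun u => Units.ext (by rw [Units.val_pow_eq_pow_val, ← hK, FiniteField.pow_card]))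
    (z := (0, 0)) (y := (1, 0)) (by simp) (exists_ne_one2 hK' hq) (k := 1)
    (by simp) (fun R h => sep_of_inv (by rw [hK']; nlinarith) (by simpa using h)) certE6
    ([70, 71, 0, 0, 71, 0, 0, 70, 0, 0, 71, 0, 0, 71, 70, 0, 71, 0, 71, 0, 0, 71, 71, 70].getD · 0)
    ([2, 1, 0, 0, 2, 0, 0, 6, 0, 0, 6, 0, 0, 8, 18, 0, 18, 0, 20, 0, 0, 24, 25, 46].getD · 0) (by decide +kernel)

theorem rkE6 (b : Fin 4) : ∃ ψ : SL(2, fldE6 φ b) →* twistedE6 K q, Rk (twE6 φ) _ b (sl2RankOne _) ψ ∧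
    (∀ a, (ψ (CfsgLib.Classical.sl2Diag a) : GL _ K) = (([[1], [3], [2, 4], [0, 5]].getD b []).map fun i =>
      (stSys rtOKE6 K).h ((rootSys rtOKE6).simple (ndE6 i)) (if i < 4 then a else φ a)).prod) ∧
    ∀ d : twistedE6 K q, d.1 ∈ (stSys rtOKE6 K).H → ∃ c, ∀ g, d * ψ g * d⁻¹ = ψ (sl2Conj c g) := by
  have hφ2 := frob2 hφ hK
  have hM := isTwE6 hφ hφ2
  have h := hasSL2_stSys rtOKE6 K
  fin_cases b
  · simpa using h.rk_single hM (fldE6 φ 0).subtype JE6_0 piE6.2.1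
      fun t => ⟨fun h => ⟨⟨t, h⟩, rfl⟩, fun ⟨u, h⟩ => h ▸ u.2⟩
  · simpa using h.rk_single hM (fldE6 φ 1).subtype JE6_1 piE6.2.2.2.1
      fun t => ⟨fun h => ⟨⟨t, h⟩, rfl⟩, fun ⟨u, h⟩ => h ▸ u.2⟩
  · simpa [twE6_f] using h.rk_pair hM (fldE6 φ 2).subtype piE6.2.2.1 piE6.2.2.2.2.1 orthE6_24 hφ2 posJE6_2'
      fun t => ⟨⟨t, trivial⟩, rfl⟩
  · simpa [twE6_f] using h.rk_pair hM (fldE6 φ 3).subtype piE6.1 piE6.2.2.2.2.2 orthE6_05 hφ2 posJE6_3'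
      fun t => ⟨⟨t, trivial⟩, rfl⟩

theorem upE6 (p : ℕ) [Fact p.Prime] [CharP K p] (Γ : Type w) [Group Γ] [Finite Γ] (σ : Γ →* twistedE6 K q)
    (hσ : Cfsg.IsStemExtension σ) (hp : ¬ p ∣ Nat.card σ.ker) :
    ∃ c : Γ, σ.ker ≤ Subgroup.zpowers c ∧ σ c = 1 ∧ c ^ Nat.gcd 3 (q + 1) = 1 := by
  have hφ2 := frob2 hφ hK
  have hM := isTwE6 hφ hφ2
  choose ψ h1 h2 h3 using rkE6 hφ hK
  obtain ⟨χ, k1, k2⟩ := RGHom.exists_torus_hom (rg_charP h1 hM p (genE6 hφ hφ2) (fun _ => sl2_U_p p)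
    (fun _ => sl2_V_p p) fun _ => sl2_T_p p) (fun _ => multP_SL2 p) (fun _ => CfsgLib.Classical.sl2Diag)
    (fun _ => rfl) (fun i j _ b => by
      obtain ⟨c, hc⟩ := h3 i _ ((h1 j).T _ ⟨b, rfl⟩)
      exact ⟨_, sl2Conj_diag c, hc⟩) hσ hp
  have k3 : ∀ a ∈ (σ.comp χ).ker, (a 3 : K) ^ 3 = 1 ∧ (a 0 : K) = 1 ∧ (a 2 : K) = (a 3 : K) ^ 2 ∧ (a 1 : K) = 1 ∧
      φ (a 3) = (a 3 : K) ^ 2 := fun a ha => by
    have e := congrArg Subtype.val (MonoidHom.mem_ker.1 ha)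
    rw [← Finset.univ_prod_mulSingle a, Fin.prod_univ_four] at e
    simp only [map_mul, MonoidHom.comp_apply, k1, rg_φ, Subgroup.coe_mul, h2] at e
    let u : ∀ b, (fldE6 φ b)ˣ →* Kˣ := fun b => Units.map (fldE6 φ b).subtype
    have := hM.sharp.chi_list (vecE6 ![u 3 (a 3), u 0 (a 0), u 2 (a 2), u 1 (a 1), Units.map φ (u 2 (a 2)),
      Units.map φ (u 3 (a 3))]) [ndE6 1, ndE6 3, ndE6 2, ndE6 4, ndE6 0, ndE6 5] (by decide)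
      (forall_ndE6.2 (by simp))
    have := (alphaE6_eq_one _).1 (hM.sharp.chi_unique (g := 1) (by
      convert this using 1; simpa [vecE6_nd, u, mul_assoc] using e.symm) chi_one)
    simp only [vecE6_nd, Units.ext_iff] at this
    exact ⟨this.1, this.2.1, this.2.2.1, this.2.2.2.1, this.2.2.2.2.2⟩
  let f : (σ.comp χ).ker →* K := ((fldE6 φ 3).subtype.toMonoidHom.comp ((Units.coeHom _).comp
    (Pi.evalMonoidHom _ 3))).comp (Subgroup.subtype _)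
  have hf : Function.Injective f := (injective_iff_map_eq_one f).2 fun a ha => by
    obtain ⟨-, e0, e2, e1, -⟩ := k3 _ a.2
    have e3 : (a.1 3 : K) = 1 := ha
    rw [e3, one_pow] at e2
    refine Subtype.ext (funext fun b => Units.ext (Subtype.ext ?_))
    fin_cases b
    exacts [e0, e1, e2, e3]
  obtain ⟨a, ha⟩ := (isCyclic_of_injective_ringHom f hf).exists_generator
  refine ⟨χ a, fun x hx => ?_, a.2, ?_⟩
  · obtain ⟨y, rfl⟩ := k2 hx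
    obtain ⟨k, hk⟩ := ha ⟨y, hx⟩
    exact ⟨k, by simpa using congrArg (fun z => χ z.1) hk⟩
  · obtain ⟨e0, -, -, -, e1⟩ := k3 _ a.2
    have : a ^ Nat.gcd 3 (q + 1) = 1 := hf (by
      rw [map_pow, map_one]
      exact pow_gcd_eq_one.2 ⟨e0, by rw [pow_succ, ← hφ]; exact (congrArg (· * _) e1).trans ((pow_succ _ 2).symm.trans e0)⟩)
    simpa using congrArg (fun z => χ z.1) this

theorem lowE6 : ∃ (E : Type w) (_ : Group E) (σ : E →* twistedE6 K q), IsCentralExt σ ∧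
    Nat.gcd 3 (q + 1) ≤ Nat.card (stemKer σ) := by
  have hφ2 := frob2 hφ hK
  have hM := isTwE6 hφ hφ2
  have hq := two_le_of_card hK
  rcases (Nat.dvd_prime Nat.prime_three).1 (Nat.gcd_dvd_left 3 (q + 1)) with e | e
  · exact ⟨_, _, _, isCentralExt_id, e.trans_le Nat.card_pos⟩
  obtain ⟨θ, C⟩ := exists_cover_steinberg (K := K) rtOKE6
  have hg : GenOK chevE6 := genOK_of_mem (by simp)
  have := C.finite rtOKE6 hg
  let E := (twistedE6 K q).comap ((chevE6.group K).subtype.comp θ)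
  have hc := C.isCentralExt rtOKE6 hg
  refine ⟨E, inferInstance, MonoidHom.subgroupComap _ _, ⟨fun m => ?_, fun x hx => ?_⟩, ?_⟩
  · obtain ⟨x, hx⟩ := hc.surj ⟨m, stSys_grp (F := K) rtOKE6 ▸ (hM.le_fix m.2).1⟩
    exact ⟨⟨x, show (θ x).1 ∈ twistedE6 K q from hx ▸ m.2⟩, Subtype.ext (congrArg (·.1) hx)⟩
  · exact Subgroup.mem_center_iff.2 fun y => Subtype.ext (hc.comm (Subtype.ext (congrArg (·.1) hx)) _)
  have h1 : 3 ∣ q + 1 := e ▸ Nat.gcd_dvd_right 3 (q + 1)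
  have : Fact (Nat.Prime 3) := ⟨Nat.prime_three⟩
  obtain ⟨w, hw⟩ := exists_prime_orderOf_dvd_card' (G := Kˣ) 3 (by
    rw [card_units', hK]; exact h1.trans ⟨q - 1, by simpa using Nat.sq_sub_sq q 1⟩)
  have h2 : w ^ 3 = 1 := hw ▸ pow_orderOf_eq_one w
  have h3 : φ w = w ^ 2 := by
    rw [hφ, ← Units.val_pow_eq_pow_val, ← Units.val_pow_eq_pow_val, Units.val_inj, ← mul_left_inj w, ← pow_succ,
      ← pow_succ, h2, orderOf_dvd_iff_pow_eq_one.1 (hw ▸ h1)]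
  have h4 : φ ((w : K) ^ 2) = w := by rw [← h3, hφ2]
  obtain ⟨a, a0, a1⟩ := exists_sq_ne_one (K := K) (by rw [hK]; nlinarith)
  let S := C.sys rtOKE6 hg
  have h5 : ∀ {i j} (ho : Orth (rootSys rtOKE6) (ndE6 i) (ndE6 j)), symE6.π (ndE6 i) = ndE6 j →
      symE6.π (ndE6 j) = ndE6 i → (rootSys rtOKE6).A (ndE6 i) (ndE6 j) = 0 →
      (rootSys rtOKE6).A (ndE6 j) (ndE6 i) = 0 → ∀ c, S.h ((rootSys rtOKE6).simple (ndE6 i)) c *
        S.h ((rootSys rtOKE6).simple (ndE6 j)) (φ c) ∈ ⁅E, E⁆ := fun ho k1 k2 k3 k4 =>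
    pair_h_mem_commutator (C.sys_hRule _ _) ho k3 k4 φ
      (fun t => by
        rw [Subgroup.mem_comap, map_mul, C.sys_map, C.sys_map, eq_FixE6 hφ hφ2]
        exact (twE6 φ).pair_pos_fix k1 k2 ho hφ2 t)
      (fun t => by
        rw [Subgroup.mem_comap, map_mul, C.sys_map, C.sys_map, eq_FixE6 hφ hφ2]
        exact (twE6 φ).pair_neg_fix k1 k2 ho hφ2 t) a0 a1
  have h6 := mul_mem (h5 orthE6_05 piE6.1 piE6.2.2.2.2.2 (by simp [cartanE6]) (by simp [cartanE6]) w)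
    (h5 orthE6_24 piE6.2.2.1 piE6.2.2.2.2.1 (by simp [cartanE6]) (by simp [cartanE6]) (w ^ 2))
  let χ := C.hListHom rtOKE6 hg rel3_steinberg
  have h7 : ∀ i (c : Kˣ), S.h ((rootSys rtOKE6).simple i) c = χ (Pi.mulSingle i c) := fun i c =>
    (hprod_mulSingle S (List.nodup_finRange _) (List.mem_finRange i) c).symm
  rw [h3, h4, ← Units.val_pow_eq_pow_val, h7, h7, h7, h7, ← map_mul, ← map_mul, ← map_mul,
    ← Subgroup.map_subtype_commutator] at h6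
  obtain ⟨z, h8, h9⟩ := h6
  have h10 : (z : chevE6.SteinbergGroup K) = χ (vecE6 ![w, 1, w ^ 2, 1, w, w ^ 2]) := h9.trans (congrArg χ
    (funext (forall_ndE6.2 (by simp [vecE6_nd, show ∀ i j, ndE6 i = ndE6 j ↔ i = j from
      fun _ _ => Iff.rfl]))))
  have h11 : θ z = 1 := by
    rw [← MonoidHom.mem_ker, C.ker_eq_center rtOKE6 hg, C.mem_center_iff rtOKE6 hg rel3_steinberg]
    exact ⟨_, congrFun ((alphaE6_eq_one _).2 (by simp [vecE6_nd, h2])), h10⟩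
  have h12 : orderOf z = 3 := orderOf_eq_prime (Subtype.ext (by
      rw [Subgroup.coe_pow, h10, ← map_pow, OneMemClass.coe_one, ← map_one χ]
      exact congrArg χ (funext (forall_ndE6.2 (by simp [vecE6_nd, h2, ← pow_mul, pow_mul' w 2 3])))))
    fun e => by
      have : w ^ 2 = 1 := eq_one_of_hList rtOKE6 rtOKE7 matchE6 matchE7 mapOK67 neg67 (ndE6 5) (s := 63)
        (by decide) (by decide +kernel) _ (h10.symm.trans (congrArg Subtype.val e))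
      exact absurd (hw ▸ orderOf_dvd_of_pow_eq_one this) (by decide)
  rw [e, ← h12]
  exact Nat.le_of_dvd Nat.card_pos (Subgroup.orderOf_dvd_natCard _
    (mem_stemKer.2 ⟨Subtype.ext (congrArg (·.1) h11), h8⟩))

theorem mult_twE6 (hq : 3 ≤ q) : Cfsg.HasCyclicSchurMultiplier (twistedE6 K q) (Nat.gcd 3 (q + 1)) := by
  obtain ⟨p, hp⟩ := CharP.exists K
  have := Fact.mk (CharP.char_is_prime K p)
  obtain ⟨E, _, σ, h1, h2⟩ := lowE6 hφ hK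
  exact cyclic_mult_of_bounds (Nat.gcd_pos_of_pos_left _ (by decide)).ne'
    (fun Γ _ _ ρ hρ => upE6 hφ hK p Γ ρ hρ (multP'_E6 hφ hK hq p Γ ρ hρ)) h1 h2

end CfsgLib.TwMult
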