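import Mathlib
import Cfsg.Agent.Lib.TwMult.E6
import Cfsg.Agent.Lib.MultC.Cover2

/-!
The triple cover of `²E₆(q)`, `3 ∣ q + 1`.
-/

set_option autoImplicit false

namespace CfsgLib.TwMult

open CfsgLib.RGD CfsgLib.Twist CfsgLib.LieMult CfsgLib.Schur CfsgLib.Chev CfsgLib.Weyl CfsgLib.Stein Cfsg.Lie CfsgLib.MultC
open scoped MatrixGroups

variable {K : Type*} [Field K] [Fintype K] {q : ℕ} {φ : K →+* K} (hφ : ∀ t, φ t = t ^ q) (hK : Fintype.card K = q ^ 2)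
include hφ hK

theorem lowD_E6 (h1 : 3 ∣ q + 1) : LowD (twistedE6 K q) 3 := by
  have hφ2 := frob2 hφ hK
  have hM := isTwE6 hφ hφ2
  have hq := two_le_of_card hK
  obtain ⟨θ, C⟩ := exists_cover_steinberg (K := K) rtOKE6
  have hg : GenOK chevE6 := genOK_of_mem (by simp)
  have := C.finite rtOKE6 hg
  let E := (twistedE6 K q).comap ((chevE6.group K).subtype.comp θ)
  have hc := C.isCentralExt rtOKE6 hg
  refine ⟨E, inferInstance, MonoidHom.subgroupComap _ _, ⟨fun m => ?_, fun x hx => ?_⟩, ?_⟩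
  · obtain ⟨x, hx⟩ := hc.surj ⟨m, stSys_grp (F := K) rtOKE6 ▸ (hM.le_fix m.2).1⟩
    exact ⟨⟨x, show (θ x).1 ∈ twistedE6 K q from hx ▸ m.2⟩, Subtype.ext (congrArg (·.1) hx)⟩
  · exact Subgroup.mem_center_iff.2 fun y => Subtype.ext (hc.comm (Subtype.ext (congrArg (·.1) hx)) _)
  have : Fact (Nat.Prime 3) := ⟨Nat.prime_three⟩
  obtain ⟨w, hw⟩ := exists_prime_orderOf_dvd_card' (G := Kˣ) 3 (by
    rw [card_units', hK]; exact h1.trans ⟨q - 1, by simpa using Nat.sq_sub_sq q 1⟩)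
  have h2 : w ^ 3 = 1 := hw ▸ pow_orderOf_eq_one w
  have h3 : φ w = w ^ 2 := by
    rw [hφ, ← Units.val_pow_eq_pow_val, ← Units.val_pow_eq_pow_val, Units.val_inj, ← mul_left_inj w, ← pow_succ,
      ← pow_succ, h2, orderOf_dvd_iff_pow_eq_one.1 (hw ▸ h1)]
  have h4 : φ ((w : K) ^ 2) = w := by rw [← h3, hφ2]
  obtain ⟨a, a0, a1⟩ := exists_sq_ne_one (K := K) (by rw [hK]; nlinarith)
  let S := C.sys rtOKE6 hg
  have h5 : ∀ {i j} (ho : Orth (rootSys rtOKE6) (ndE6 i) (ndE6 j)), symE6.π (ndE6 i) = ndE6 j →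
      symE6.π (ndE6 j) = ndE6 i → (rootSys rtOKE6).A (ndE6 i) (ndE6 j) = 0 →
      (rootSys rtOKE6).A (ndE6 j) (ndE6 i) = 0 → ∀ c, S.h ((rootSys rtOKE6).simple (ndE6 i)) c *
        S.h ((rootSys rtOKE6).simple (ndE6 j)) (φ c) ∈ ⁅E, E⁆ := fun ho k1 k2 k3 k4 =>
    pair_h_mem_commutator (C.sys_hRule _ _) ho k3 k4 φ
      (fun t => by
        rw [Subgroup.mem_comap, map_mul, C.sys_map, C.sys_map, eq_FixE6 hφ hφ2]
        exact (twE6 φ).pair_pos_fix k1 k2 ho hφ2 t)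
      (fun t => by
        rw [Subgroup.mem_comap, map_mul, C.sys_map, C.sys_map, eq_FixE6 hφ hφ2]
        exact (twE6 φ).pair_neg_fix k1 k2 ho hφ2 t) a0 a1
  have h6 := mul_mem (h5 orthE6_05 piE6.1 piE6.2.2.2.2.2 (by simp [cartanE6]) (by simp [cartanE6]) w)
    (h5 orthE6_24 piE6.2.2.1 piE6.2.2.2.2.1 (by simp [cartanE6]) (by simp [cartanE6]) (w ^ 2))
  let χ := C.hListHom rtOKE6 hg rel3_steinberg
  have h7 : ∀ i (c : Kˣ), S.h ((rootSys rtOKE6).simple i) c = χ (Pi.mulSingle i c) := fun i c =>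
    (hprod_mulSingle S (List.nodup_finRange _) (List.mem_finRange i) c).symm
  rw [h3, h4, ← Units.val_pow_eq_pow_val, h7, h7, h7, h7, ← map_mul, ← map_mul, ← map_mul,
    ← Subgroup.map_subtype_commutator] at h6
  obtain ⟨z, h8, h9⟩ := h6
  have h10 : (z : chevE6.SteinbergGroup K) = χ (vecE6 ![w, 1, w ^ 2, 1, w, w ^ 2]) := h9.trans (congrArg χ
    (funext (forall_ndE6.2 (by simp [vecE6_nd, show ∀ i j, ndE6 i = ndE6 j ↔ i = j from
      fun _ _ => Iff.rfl]))))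
  have h11 : θ z = 1 := by
    rw [← MonoidHom.mem_ker, C.ker_eq_center rtOKE6 hg, C.mem_center_iff rtOKE6 hg rel3_steinberg]
    exact ⟨_, congrFun ((alphaE6_eq_one _).2 (by simp [vecE6_nd, h2])), h10⟩
  have h12 : orderOf z = 3 := orderOf_eq_prime (Subtype.ext (by
      rw [Subgroup.coe_pow, h10, ← map_pow, OneMemClass.coe_one, ← map_one χ]
      exact congrArg χ (funext (forall_ndE6.2 (by simp [vecE6_nd, h2, ← pow_mul, pow_mul' w 2 3])))))
    fun e => by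
      have : w ^ 2 = 1 := eq_one_of_hList rtOKE6 rtOKE7 matchE6 matchE7 mapOK67 neg67 (ndE6 5) (s := 63)
        (by decide) (by decide +kernel) _ (h10.symm.trans (congrArg Subtype.val e))
      exact absurd (hw ▸ orderOf_dvd_of_pow_eq_one this) (by decide)
  exact h12 ▸ Subgroup.orderOf_dvd_natCard _ (mem_stemKer.2 ⟨Subtype.ext (congrArg (·.1) h11), h8⟩)

end CfsgLib.TwMult
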